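import Groth.Prelude.Def_AdFn
import Mathlib.AlgebraicGeometry.Morphisms.FiniteType
import Mathlib.AlgebraicGeometry.Morphisms.Separated
import Mathlib.AlgebraicGeometry.Morphisms.ClosedImmersion
import Mathlib.AlgebraicGeometry.Morphisms.QuasiCompact

/-!
# Points of finite type schemes over the adeles
-/

set_option autoImplicit false
set_option linter.style.haveILetI false
set_option maxHeartbeats 1000000
universe u

open CategoryTheory CategoryTheory.Limits AlgebraicGeometry

noncomputable section

namespace AdPtsLib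

/-- Points of a separated scheme agreeing after a separating family of base changes agree. -/
theorem eq_of_forall_spec {S : Scheme.{u}} (G : Over S) [IsSeparated G.hom] {A : CommRingCat.{u}} {κ : Type*}
    (D : κ → CommRingCat.{u}) (π : ∀ i, A ⟶ D i) (hπ : ∀ a, (∀ i, π i a = 0) → a = 0)
    (p q : Spec A ⟶ G.left) (hw : p ≫ G.hom = q ≫ G.hom) (h : ∀ i, Spec.map (π i) ≫ p = Spec.map (π i) ≫ q) : p = q := by
  let d := pullback.lift p q hw
  haveI : IsClosedImmersion (pullback.diagonal G.hom) := IsSeparated.isClosedImmersion_diagonal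
  let c := pullback.fst d (pullback.diagonal G.hom)
  haveI : IsClosedImmersion c := MorphismProperty.pullback_fst (P := @IsClosedImmersion) _ _ inferInstance
  let em := Scheme.ΓSpecIso A
  have hinj : Function.Injective c.appTop := by
    rw [injective_iff_map_eq_zero]
    intro a ha
    suffices em.hom a = 0 by
      rw [← map_zero em.hom.hom] at this
      exact (ConcreteCategory.bijective_of_isIso em.hom).1 this
    refine hπ _ fun i => ?_
    have hz : Spec.map (π i) ≫ d = (Spec.map (π i) ≫ p) ≫ pullback.diagonal G.hom := by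
      refine pullback.hom_ext ?_ ?_
      · rw [Category.assoc, Category.assoc, pullback.diagonal_fst, Category.comp_id]
        exact congrArg (Spec.map (π i) ≫ ·) (pullback.lift_fst _ _ _)
      · rw [Category.assoc, Category.assoc, pullback.diagonal_snd, Category.comp_id, h i]
        exact congrArg (Spec.map (π i) ≫ ·) (pullback.lift_snd _ _ _)
    have h1 : (Spec.map (π i)).appTop a = 0 := by
      rw [← pullback.lift_fst (f := d) (g := pullback.diagonal G.hom) (Spec.map (π i)) (Spec.map (π i) ≫ p) hz,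
        Scheme.Hom.comp_appTop, ConcreteCategory.comp_apply, ha, map_zero]
    have h2 := congr($(Scheme.ΓSpecIso_naturality (π i)) a)
    rw [ConcreteCategory.comp_apply, h1, map_zero, ConcreteCategory.comp_apply] at h2
    exact h2.symm
  haveI := IsClosedImmersion.isIso_of_injective_of_isAffine hinj
  rw [← cancel_epi c]
  have h3 : c ≫ d = pullback.snd d _ ≫ pullback.diagonal G.hom := pullback.condition
  have hp := congrArg (· ≫ pullback.fst G.hom G.hom) h3
  have hq := congrArg (· ≫ pullback.snd G.hom G.hom) h3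
  simp only [Category.assoc, d, pullback.lift_fst, pullback.lift_snd, pullback.diagonal_fst, pullback.diagonal_snd,
    Category.comp_id] at hp hq
  exact hp.trans hq.symm

/-- Glueing a point from pieces indexed by orthogonal idempotents. -/
theorem exists_glue {A : CommRingCat.{u}} {ι : Type u} [Fintype ι] (e : ι → A) (hsum : ∑ i, e i = 1)
    (horth : ∀ i j, i ≠ j → e i * e j = 0) {X : Scheme.{u}}
    (φ : ∀ i, Spec (CommRingCat.of (Localization.Away (e i))) ⟶ X) :
    ∃ p : Spec A ⟶ X, ∀ i, Spec.map (CommRingCat.ofHom (algebraMap A (Localization.Away (e i)))) ≫ p = φ i := by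
  let 𝒰 := (Scheme.affineOpenCoverOfSpanRangeEqTop e (by
    rw [Ideal.eq_top_iff_one, ← hsum]
    exact sum_mem fun i _ => Ideal.subset_span ⟨i, rfl⟩)).openCover
  refine ⟨𝒰.glueMorphisms φ fun i j => ?_, fun i => 𝒰.ι_glueMorphisms φ _ i⟩
  by_cases hij : i = j
  · subst hij
    have : pullback.fst (𝒰.f i) (𝒰.f i) = pullback.snd (𝒰.f i) (𝒰.f i) := (cancel_mono (𝒰.f i)).1 pullback.condition
    rw [this]
  · haveI : IsEmpty ↑(pullback (𝒰.f i) (𝒰.f j)) := ⟨fun y => by
      let z : PrimeSpectrum A := 𝒰.f i (pullback.fst (𝒰.f i) (𝒰.f j) y)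
      have hz : z = 𝒰.f j (pullback.snd (𝒰.f i) (𝒰.f j) y) := congr($(pullback.condition (f := 𝒰.f i) (g := 𝒰.f j)) y)
      have hi : z ∈ Set.range (PrimeSpectrum.comap (algebraMap A (Localization.Away (e i)))) := ⟨_, rfl⟩
      have hj : z ∈ Set.range (PrimeSpectrum.comap (algebraMap A (Localization.Away (e j)))) := ⟨_, hz.symm⟩
      rw [PrimeSpectrum.localization_away_comap_range _ (e i)] at hi
      rw [PrimeSpectrum.localization_away_comap_range _ (e j)] at hj
      have h0 : e i * e j ∈ z.asIdeal := horth i j hij ▸ z.asIdeal.zero_mem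
      exact (z.isPrime.mem_or_mem h0).elim hi hj⟩
    exact isInitialOfIsEmpty.hom_ext _ _

/-- A ring map into a field with integral values on generators has integral values. -/
theorem mem_of_adjoin {R B F : Type u} [CommRing R] [CommRing B] [Algebra R B] [Field F] (V : ValuationSubring F)
    (χ : B →+* F) (h0 : ∀ r, χ (algebraMap R B r) ∈ V) (s : Finset B) (hs : Algebra.adjoin R (s : Set B) = ⊤)
    (h : ∀ b ∈ s, χ b ∈ V) (b : B) : χ b ∈ V := by
  have hb : b ∈ Algebra.adjoin R (s : Set B) := hs ▸ Algebra.mem_top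
  induction hb using Algebra.adjoin_induction with
  | mem x hx => exact h x hx
  | algebraMap r => exact h0 r
  | add x y _ _ hx hy => rw [map_add]; exact add_mem hx hy
  | mul x y _ _ hx hy => rw [map_mul]; exact mul_mem hx hy

section global

variable {k K : Type u} [Field k] [Field K] [Algebra k K] [AdFn.HasFinitePoles k K]
variable (S : Set (FunFld.Place k K)) (G : Over (Spec (CommRingCat.of (AdFn.SInt S))))
  [LocallyOfFiniteType G.hom] [QuasiCompact G.hom]

omit [AdFn.HasFinitePoles k K] in
theorem exists_struct {U : G.left.Opens} (hU : IsAffineOpen U) :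
    ∃ s : (AdFn.SInt S) →+* Γ(G.left, U), hU.fromSpec ≫ G.hom = Spec.map (CommRingCat.ofHom s) ∧
      ∃ t : Finset Γ(G.left, U), letI := s.toAlgebra; Algebra.adjoin (AdFn.SInt S) (t : Set Γ(G.left, U)) = ⊤ := by
  obtain ⟨s, hs⟩ := Spec.map_surjective (hU.fromSpec ≫ G.hom)
  refine ⟨s.hom, hs.symm, ?_⟩
  have h : LocallyOfFiniteType (Spec.map s) := by rw [hs]; infer_instance
  rw [HasRingHomProperty.Spec_iff (P := @LocallyOfFiniteType)] at h
  letI := s.hom.toAlgebra
  exact (h : Algebra.FiniteType (AdFn.SInt S) Γ(G.left, U)).out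

/-- The rational point at a place of an adelic point. -/
abbrev atPlace (v : FunFld.Place k K) :
    Spec (CommRingCat.of (AdFn.Kv v)) ⟶ Spec (CommRingCat.of (AdFn.AdeleRing k K)) :=
  Spec.map (CommRingCat.ofHom (AdFn.AdeleRing.proj v))

/-- Almost all components of an adelic point are integral. -/
theorem eventually_integral (p : Spec (CommRingCat.of (AdFn.AdeleRing k K)) ⟶ G.left)
    (hp : p ≫ G.hom = Spec.map (CommRingCat.ofHom (AdFn.SInt.toAd S))) :
    ∀ᶠ v in Filter.cofinite, ∀ hv : v ∉ S, ∃ q : Spec (CommRingCat.of (AdFn.Ov v)) ⟶ G.left,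
      q ≫ G.hom = Spec.map (CommRingCat.ofHom (AdFn.SInt.toOv S hv)) ∧
      Spec.map (CommRingCat.ofHom (AdFn.Ov v).subtype) ≫ q = atPlace v ≫ p := by
  classical
  let A := AdFn.AdeleRing k K
  haveI : CompactSpace G.left := QuasiCompact.compactSpace_of_compactSpace G.hom
  have hloc : ∀ x : Spec (CommRingCat.of A), ∃ (U : G.left.Opens) (f : A), IsAffineOpen U ∧
      f ∉ x.asIdeal ∧ (PrimeSpectrum.basicOpen f : Set (PrimeSpectrum A)) ⊆ p ⁻¹' U := fun x => by
    obtain ⟨U, hU, hxU, -⟩ := exists_isAffineOpen_mem_and_subset (x := p x) (U := ⊤) trivial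
    obtain ⟨_, ⟨f, rfl⟩, hxf, hf⟩ := PrimeSpectrum.isTopologicalBasis_basic_opens.exists_subset_of_mem_open
      (show x ∈ p ⁻¹' (U : Set G.left) from hxU) (U.2.preimage p.continuous)
    exact ⟨U, f, hU, hxf, hf⟩
  choose U f hU hf hfU using hloc
  have hspan : Ideal.span (Set.range f) = ⊤ := by
    by_contra h
    obtain ⟨m, hm, hle⟩ := Ideal.exists_le_maximal _ h
    exact hf ⟨m, hm.isPrime⟩ (hle (Ideal.subset_span ⟨_, rfl⟩))
  obtain ⟨c, hc⟩ := (Finsupp.mem_span_range_iff_exists_finsupp).1 ((Ideal.eq_top_iff_one _).1 hspan)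
  have hφ : ∀ x, ∃ φ : Γ(G.left, U x) ⟶ CommRingCat.of (Localization.Away (f x)),
      Spec.map φ ≫ (hU x).fromSpec = Spec.map (CommRingCat.ofHom (algebraMap A (Localization.Away (f x)))) ≫ p := fun x => by
    have hr : Set.range (Spec.map (CommRingCat.ofHom (algebraMap A (Localization.Away (f x)))) ≫ p) ⊆
        Set.range (hU x).fromSpec := by
      rintro _ ⟨y, rfl⟩
      rw [IsAffineOpen.range_fromSpec]
      exact hfU x ((PrimeSpectrum.localization_away_comap_range (Localization.Away (f x)) (f x)).le ⟨y, rfl⟩)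
    obtain ⟨φ, hφ⟩ := Spec.map_surjective (IsOpenImmersion.lift (hU x).fromSpec _ hr)
    exact ⟨φ, by rw [hφ, IsOpenImmersion.lift_fac]⟩
  choose φ hφ using hφ
  choose s hs t ht using fun x => exists_struct S G (hU x)
  have hnum : ∀ x (b : Γ(G.left, U x)), ∃ (n : ℕ) (a : A),
      φ x b * algebraMap A (Localization.Away (f x)) (f x ^ n) = algebraMap A (Localization.Away (f x)) a := fun x b => by
    obtain ⟨⟨a, ⟨_, n, rfl⟩⟩, h⟩ := IsLocalization.surj (Submonoid.powers (f x)) (φ x b)
    exact ⟨n, a, h⟩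
  choose n a ha using hnum
  have hint : ∀ z : A, ∀ᶠ v in Filter.cofinite, AdFn.AdeleRing.proj v z ∈ AdFn.Ov v := fun z => z.2
  have h1 : ∀ᶠ v in Filter.cofinite, ∀ x ∈ c.support, AdFn.AdeleRing.proj v (c x) ∈ AdFn.Ov v ∧
      AdFn.AdeleRing.proj v (f x) ∈ AdFn.Ov v ∧ ∀ b ∈ t x, AdFn.AdeleRing.proj v (a x b) ∈ AdFn.Ov v := by
    simp only [Finset.eventually_all]
    exact fun x _ => (hint _).and ((hint _).and ((Finset.eventually_all _).2 fun b _ => hint _))
  filter_upwards [h1] with v hv hvS
  let π := AdFn.AdeleRing.proj (k := k) v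
  obtain ⟨x, hx, hxu⟩ : ∃ x ∈ c.support, ∀ hm : π (f x) ∈ AdFn.Ov v, IsUnit (⟨π (f x), hm⟩ : AdFn.Ov v) := by
    by_contra hcon
    push_neg at hcon
    choose hm hnu using hcon
    have hsum : (∑ x ∈ c.support.attach, (⟨π (c x), (hv x x.2).1⟩ : AdFn.Ov v) * ⟨π (f x), hm x x.2⟩) = 1 := by
      refine Subtype.ext ?_
      push_cast
      rw [Finset.sum_attach c.support fun x => π (c x) * π (f x)]
      simp_rw [← map_mul, ← map_sum]
      rw [show ∑ x ∈ c.support, c x * f x = 1 from hc, map_one]
    have hmem : (∑ x ∈ c.support.attach, (⟨π (c x), (hv x x.2).1⟩ : AdFn.Ov v) * ⟨π (f x), hm x x.2⟩) ∈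
        IsLocalRing.maximalIdeal (AdFn.Ov v) :=
      Ideal.sum_mem _ fun x _ => Ideal.mul_mem_left _ _ ((IsLocalRing.mem_maximalIdeal _).2 (hnu x x.2))
    rw [hsum] at hmem
    exact (IsLocalRing.mem_maximalIdeal _).1 hmem isUnit_one
  obtain ⟨w, hw⟩ := hxu (hv x hx).2.1
  have hfu : IsUnit (π (f x)) := ⟨Units.map (AdFn.Ov v).subtype.toMonoidHom w, by simp [hw]⟩
  let L : Localization.Away (f x) →+* AdFn.Kv v := IsLocalization.Away.lift (S := Localization.Away (f x)) (f x) hfu
  have hL : ∀ z, L (algebraMap A _ z) = π z := fun z => IsLocalization.Away.lift_eq _ hfu z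
  let χ : Γ(G.left, U x) →+* AdFn.Kv v := L.comp (φ x).hom
  have hχ0 : Spec.map (CommRingCat.ofHom χ) ≫ (hU x).fromSpec = atPlace v ≫ p := by
    rw [show CommRingCat.ofHom χ = φ x ≫ CommRingCat.ofHom L from rfl, Spec.map_comp, Category.assoc, hφ,
      ← Category.assoc, ← Spec.map_comp]
    exact congrArg (fun m => Spec.map m ≫ p) (CommRingCat.hom_ext (RingHom.ext hL))
  have hχs : χ.comp (s x) = AdFn.SInt.toKv S v := by
    have h := congrArg (· ≫ G.hom) hχ0
    simp only [Category.assoc, hp, hs x, atPlace] at h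
    rw [← Spec.map_comp, ← Spec.map_comp, Spec.map_inj] at h
    exact congrArg CommRingCat.Hom.hom h
  have hmem : ∀ b, χ b ∈ AdFn.Ov v := by
    letI := (s x).toAlgebra
    refine mem_of_adjoin (R := AdFn.SInt S) (AdFn.Ov v) χ (fun r => ?_) (t x) (ht x) fun b hb => ?_
    · rw [RingHom.algebraMap_toAlgebra, ← RingHom.comp_apply, hχs]
      exact (AdFn.toKv_mem_Ov v r.1).2 (r.2 v hvS)
    · have h := congrArg L (ha x b)
      rw [map_mul, hL, hL, map_pow] at h
      have hb' : χ b = π (a x b) * ((w⁻¹ ^ n x b : (AdFn.Ov v)ˣ) : AdFn.Ov v).1 := by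
        rw [← h, show π (f x) = ((w : AdFn.Ov v) : AdFn.Kv v) by rw [hw], mul_assoc]
        show χ b = L (φ x b) * _
        rw [← SubmonoidClass.coe_pow, ← MulMemClass.coe_mul, ← Units.val_pow_eq_pow_val, ← Units.val_mul, ← mul_pow,
          mul_inv_cancel, one_pow, Units.val_one, OneMemClass.coe_one, mul_one]
        rfl
      rw [hb']
      exact mul_mem ((hv x hx).2.2 b hb) (SetLike.coe_mem _)
  let χ' : Γ(G.left, U x) →+* AdFn.Ov v := χ.codRestrict (AdFn.Ov v).toSubring hmem
  refine ⟨Spec.map (CommRingCat.ofHom χ') ≫ (hU x).fromSpec, ?_, ?_⟩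
  · rw [Category.assoc, hs x, ← Spec.map_comp]
    exact congrArg Spec.map (CommRingCat.hom_ext (RingHom.ext fun r => Subtype.ext (RingHom.congr_fun hχs r)))
  · rw [← Category.assoc, ← Spec.map_comp, ← CommRingCat.ofHom_comp]
    exact hχ0

/-- A family of local points almost all of which are integral comes from an adelic point. -/
theorem exists_of_family (r : ∀ v, Spec (CommRingCat.of (AdFn.Kv v)) ⟶ G.left)
    (hr : ∀ v : FunFld.Place k K, r v ≫ G.hom = Spec.map (CommRingCat.ofHom (AdFn.SInt.toKv S v)))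
    (hint : ∀ᶠ v in Filter.cofinite, ∃ q : Spec (CommRingCat.of (AdFn.Ov v)) ⟶ G.left,
      Spec.map (CommRingCat.ofHom (AdFn.Ov v).subtype) ≫ q = r v) :
    ∃ p : Spec (CommRingCat.of (AdFn.AdeleRing k K)) ⟶ G.left,
      p ≫ G.hom = Spec.map (CommRingCat.ofHom (AdFn.SInt.toAd S)) ∧ ∀ v, atPlace v ≫ p = r v := by
  classical
  haveI : CompactSpace G.left := QuasiCompact.compactSpace_of_compactSpace G.hom
  choose U hU hxU using fun x : G.left => exists_isAffineOpen_mem_and_subset (x := x) (U := ⊤) trivial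
  obtain ⟨J, hJ⟩ := isCompact_univ.elim_finite_subcover (fun x => (U x : Set G.left)) (fun x => (U x).2)
    fun x _ => Set.mem_iUnion.2 ⟨x, (hxU x).1⟩
  have key : ∀ v, ∃ (i : J) (χ : Γ(G.left, U i) →+* AdFn.Kv v),
      Spec.map (CommRingCat.ofHom χ) ≫ (hU i).fromSpec = r v ∧
        ((∃ q : Spec (CommRingCat.of (AdFn.Ov v)) ⟶ G.left,
          Spec.map (CommRingCat.ofHom (AdFn.Ov v).subtype) ≫ q = r v) → ∀ b, χ b ∈ AdFn.Ov v) := fun v => by
    have lift : ∀ {D : Type u} [CommRing D] [IsLocalRing D] (y : Spec (CommRingCat.of D) ⟶ G.left),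
        ∃ (i : J) (χ : Γ(G.left, U i) →+* D), Spec.map (CommRingCat.ofHom χ) ≫ (hU i).fromSpec = y := by
      intro D _ _ y
      obtain ⟨i, hiJ, hi⟩ : ∃ i ∈ J, y (IsLocalRing.closedPoint D) ∈ U i := by
        simpa using Set.mem_iUnion₂.1 (hJ (Set.mem_univ (y (IsLocalRing.closedPoint D))))
      have hr : Set.range y ⊆ Set.range (hU i).fromSpec := by
        rintro _ ⟨z, rfl⟩
        rw [IsAffineOpen.range_fromSpec]
        exact ((IsLocalRing.specializes_closedPoint z).map y.continuous).mem_open (U i).2 hi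
      obtain ⟨χ, hχ⟩ := Spec.map_surjective (IsOpenImmersion.lift (hU i).fromSpec _ hr)
      exact ⟨⟨i, hiJ⟩, χ.hom, by rw [CommRingCat.ofHom_hom, hχ, IsOpenImmersion.lift_fac]⟩
    by_cases h : ∃ q : Spec (CommRingCat.of (AdFn.Ov v)) ⟶ G.left,
        Spec.map (CommRingCat.ofHom (AdFn.Ov v).subtype) ≫ q = r v
    · obtain ⟨q, hq⟩ := h
      obtain ⟨i, χ, hχ⟩ := lift q
      exact ⟨i, (AdFn.Ov v).subtype.comp χ, by rw [CommRingCat.ofHom_comp, Spec.map_comp, Category.assoc, hχ, hq],
        fun _ b => (χ b).2⟩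
    · obtain ⟨i, χ, hχ⟩ := lift (r v)
      exact ⟨i, χ, hχ, fun h' => absurd h' h⟩
  choose idx χ hχ hχint using key
  let A := AdFn.AdeleRing k K
  let e : J → A := fun i => ⟨fun v => if idx v = i then 1 else 0, Filter.Eventually.of_forall fun v => by
    by_cases h : idx v = i <;> simp [h, one_mem, zero_mem]⟩
  have he : ∀ i v, AdFn.AdeleRing.proj v (e i) = if idx v = i then 1 else 0 := fun _ _ => rfl
  have hext : ∀ {a b : A}, (∀ v, AdFn.AdeleRing.proj v a = AdFn.AdeleRing.proj v b) → a = b :=
    fun h => Subtype.ext (funext h)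
  have hsum : ∑ i, e i = 1 := hext fun v => by simp [map_sum, he]
  have horth : ∀ i j, i ≠ j → e i * e j = 0 := fun i j hij => hext fun v => by
    rw [map_mul, he, he, map_zero]
    split_ifs with h1 h2 <;> simp
    exact hij (h1.symm.trans h2)
  let F : ∀ i : J, Γ(G.left, U i) → A := fun i b =>
    ⟨fun v => if h : idx v = i then χ v (cast (by rw [h]) b) else 0, by
      filter_upwards [hint] with v hv
      by_cases h : idx v = i
      · simp only [dif_pos h, SetLike.mem_coe]
        exact hχint v hv _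
      · simp [dif_neg h, zero_mem]⟩
  have hF : ∀ v b, AdFn.AdeleRing.proj v (F (idx v) b) = χ v b := fun v b => dif_pos rfl
  have hF0 : ∀ v i b, idx v ≠ i → AdFn.AdeleRing.proj v (F i b) = 0 := fun v i b h => dif_neg h
  have hone : ∀ i, algebraMap A (Localization.Away (e i)) (e i) = 1 := fun i => by
    have hid : e i * e i = e i := hext fun v => by
      rw [map_mul, he]
      split_ifs <;> simp
    let lc : A →+* Localization.Away (e i) := algebraMap A (Localization.Away (e i))
    have h : lc (e i * e i) = lc (e i) := by rw [hid]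
    rw [map_mul] at h
    exact (IsLocalization.Away.algebraMap_isUnit (e i)).mul_left_cancel (h.trans (mul_one _).symm)
  let ψ : ∀ i : J, Γ(G.left, U i) →+* Localization.Away (e i) := fun i =>
    { toFun := fun b => algebraMap A (Localization.Away (e i)) (F i b)
      map_one' := (congrArg (algebraMap A (Localization.Away (e i))) (hext fun v => by
        by_cases h : idx v = i
        · subst h; rw [hF, map_one, he, if_pos rfl]
        · rw [hF0 v i _ h, he, if_neg h] : F i 1 = e i)).trans (hone i)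
      map_zero' := (congrArg (algebraMap A (Localization.Away (e i))) (hext fun v => by
        by_cases h : idx v = i
        · subst h; rw [hF, map_zero, map_zero]
        · rw [hF0 v i _ h, map_zero] : F i 0 = 0)).trans (map_zero _)
      map_mul' := fun b c => (congrArg (algebraMap A (Localization.Away (e i))) (hext fun v => by
        by_cases h : idx v = i
        · subst h; simp [hF, map_mul]
        · simp [hF0 v i _ h, map_mul] : F i (b * c) = F i b * F i c)).trans (map_mul _ _ _)
      map_add' := fun b c => (congrArg (algebraMap A (Localization.Away (e i))) (hext fun v => by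
        by_cases h : idx v = i
        · subst h; simp [hF, map_add]
        · simp [hF0 v i _ h, map_add] : F i (b + c) = F i b + F i c)).trans (map_add _ _ _) }
  obtain ⟨p, hp⟩ := exists_glue (A := CommRingCat.of A) e hsum horth
    fun i => Spec.map (CommRingCat.ofHom (ψ i)) ≫ (hU i).fromSpec
  have hv : ∀ v, atPlace v ≫ p = r v := fun v => by
    have hu : IsUnit (AdFn.AdeleRing.proj v (e (idx v))) := by rw [he, if_pos rfl]; exact isUnit_one
    let L : Localization.Away (e (idx v)) →+* AdFn.Kv v := IsLocalization.Away.lift (S := Localization.Away (e (idx v))) _ hu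
    have hL : ∀ z, L (algebraMap A _ z) = AdFn.AdeleRing.proj v z := fun z => IsLocalization.Away.lift_eq _ hu z
    have h1 : atPlace v = Spec.map (CommRingCat.ofHom L) ≫
        Spec.map (CommRingCat.ofHom (algebraMap A (Localization.Away (e (idx v))))) := by
      rw [← Spec.map_comp]
      exact congrArg Spec.map (CommRingCat.hom_ext (RingHom.ext fun z => (hL z).symm))
    rw [h1, Category.assoc, hp, ← Category.assoc, ← Spec.map_comp, ← hχ v]
    exact congrArg (fun m => Spec.map m ≫ _) (CommRingCat.hom_ext (RingHom.ext fun b => (hL _).trans (hF v b)))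
  refine ⟨p, ?_, hv⟩
  obtain ⟨m, hm⟩ := Spec.map_surjective (p ≫ G.hom)
  rw [← hm]
  refine congrArg Spec.map (CommRingCat.hom_ext (RingHom.ext fun z => hext fun v => ?_))
  have h := hr v
  rw [← hv v, Category.assoc, ← hm, ← Spec.map_comp, Spec.map_inj] at h
  exact (congr($h z)).trans rfl

end global

end AdPtsLib
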